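import Groth.Agent.NeronLib.SmoothPoint
import Groth.Agent.NeronLib.Smooth
import Groth.Agent.RegLocalDer.Basic
import Groth.Agent.SMT.Rank
import Groth.Agent.DimFormulaLib.LocalDim

/-! The Jacobian matrix of a presentation at a prime, over a field. -/

set_option autoImplicit false

universe u

namespace Groth.Agent.CAlgSmoothDim

open MvPolynomial TensorProduct IsLocalRing

variable {k S : Type u} [Field k] [CommRing S] [Algebra k S] {N : ℕ}
  (π : MvPolynomial (Fin N) k →ₐ[k] S) (q : Ideal S) [q.IsPrime]

/-- Evaluation at the point `q`. -/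
noncomputable def ev : MvPolynomial (Fin N) k →+* q.ResidueField :=
  (algebraMap S q.ResidueField).comp π.toRingHom

lemma ev_eq_zero_iff (x : MvPolynomial (Fin N) k) : ev π q x = 0 ↔ x ∈ q.comap π.toRingHom := by
  rw [ev, RingHom.comp_apply, Ideal.algebraMap_residueField_eq_zero, Ideal.mem_comap]

/-- The Jacobian row of `f` at `q`. -/
noncomputable def J (f : MvPolynomial (Fin N) k) : Fin N → q.ResidueField := fun j => ev π q (pderiv j f)

lemma J_add (f g : MvPolynomial (Fin N) k) : J π q (f + g) = J π q f + J π q g := by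
  funext j; simp [J]

lemma J_zero : J π q 0 = 0 := by
  funext j; simp [J]

lemma J_sub (f g : MvPolynomial (Fin N) k) : J π q (f - g) = J π q f - J π q g := by
  funext j; simp [J]

lemma J_sum {ι : Type*} (s : Finset ι) (f : ι → MvPolynomial (Fin N) k) :
    J π q (∑ i ∈ s, f i) = ∑ i ∈ s, J π q (f i) := by
  funext j; simp [J]

lemma J_mul (f g : MvPolynomial (Fin N) k) :
    J π q (f * g) = ev π q f • J π q g + ev π q g • J π q f := by
  funext j; simp [J, add_comm, mul_comm]

lemma J_X (i : Fin N) : J π q (X i) = Pi.single i 1 := by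
  funext j
  by_cases h : i = j
  · subst h; simp [J]
  · rw [J, pderiv_X_of_ne h, map_zero, Pi.single_eq_of_ne (Ne.symm h)]

lemma J_C (c : k) : J π q (C c) = 0 := by
  funext j; simp [J]

/-- The span of the Jacobian rows of the relations. -/
noncomputable def W : Submodule q.ResidueField (Fin N → q.ResidueField) :=
  Submodule.span q.ResidueField (J π q '' (RingHom.ker π.toRingHom : Set (MvPolynomial (Fin N) k)))

lemma J_mem_W {f : MvPolynomial (Fin N) k} (hf : π f = 0) : J π q f ∈ W π q :=
  Submodule.subset_span ⟨f, hf, rfl⟩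

theorem finrank_kaehler_add_finrank_W (hπ : Function.Surjective π) :
    Module.finrank q.ResidueField (q.ResidueField ⊗[S] Ω[S⁄k]) +
      Module.finrank q.ResidueField (W π q) = N := by
  classical
  let κ := q.ResidueField
  let V := (Fin N → κ) ⧸ W π q
  let mk : MvPolynomial (Fin N) k → V := fun f => Submodule.Quotient.mk (J π q f)
  choose lift hlift using hπ
  have hwd : ∀ f, mk (lift (π f)) = mk f := fun f => (Submodule.Quotient.eq _).2 (by
    rw [← J_sub]; exact J_mem_W π q (by rw [map_sub, hlift, sub_self]))
  have hsm : ∀ (s : S) (v : V), s • v = algebraMap S κ s • v := fun s v => (algebraMap_smul κ s v).symm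
  let der : Derivation k S V :=
    { toFun := fun s => mk (lift s)
      map_add' := fun a b => by
        conv_lhs => rw [← hlift a, ← hlift b, ← map_add π, hwd]
        exact congrArg Submodule.Quotient.mk (J_add π q _ _)
      map_smul' := fun c a => by
        conv_lhs => rw [← hlift a, Algebra.smul_def, ← π.commutes, ← map_mul π, hwd]
        change Submodule.Quotient.mk _ = _
        rw [RingHom.id_apply, J_mul, algebraMap_eq, J_C, smul_zero, add_zero, Submodule.Quotient.mk_smul]
        rw [show ev π q (C c) = algebraMap k κ c from by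
          rw [ev, RingHom.comp_apply, ← algebraMap_eq, AlgHom.toRingHom_eq_coe, RingHom.coe_coe,
            π.commutes, ← IsScalarTower.algebraMap_apply], algebraMap_smul]
      map_one_eq_zero' := by
        change mk (lift 1) = 0
        conv_lhs => rw [← map_one π, hwd]
        change Submodule.Quotient.mk _ = _
        rw [show (1 : MvPolynomial (Fin N) k) = C 1 from C_1.symm, J_C, Submodule.Quotient.mk_zero]
      leibniz' := fun a b => by
        change mk (lift (a * b)) = a • mk (lift b) + b • mk (lift a)
        conv_lhs => rw [← hlift a, ← hlift b, ← map_mul π, hwd]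
        change Submodule.Quotient.mk _ = _
        rw [J_mul, Submodule.Quotient.mk_add, Submodule.Quotient.mk_smul, Submodule.Quotient.mk_smul,
          hsm, hsm]
        simp [ev, hlift, mk] }
  let Φ : κ ⊗[S] Ω[S⁄k] →ₗ[κ] V := der.liftKaehlerDifferential.liftBaseChange κ
  let g : (Fin N → κ) →ₗ[κ] κ ⊗[S] Ω[S⁄k] :=
    Fintype.linearCombination κ fun j => (1 : κ) ⊗ₜ KaehlerDifferential.D k S (π (X j))
  have hg : ∀ f, g (J π q f) = (1 : κ) ⊗ₜ KaehlerDifferential.D k S (π f) := by
    intro f
    induction f using MvPolynomial.induction_on with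
    | C c =>
      rw [J_C, map_zero, ← algebraMap_eq, π.commutes, Derivation.map_algebraMap, tmul_zero]
    | add a b ha hb => rw [J_add, map_add, ha, hb, map_add π, map_add, tmul_add]
    | mul_X a i ha =>
      rw [J_mul, map_add, map_smul, map_smul, ha, map_mul π, Derivation.leibniz, tmul_add,
        tmul_smul, tmul_smul, J_X, Fintype.linearCombination_apply_single, one_smul,
        ← algebraMap_smul κ (π a), ← algebraMap_smul κ (π (X i))]
      rfl
  have hgW : W π q ≤ LinearMap.ker g := by
    refine Submodule.span_le.2 ?_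
    rintro _ ⟨f, hf, rfl⟩
    rw [SetLike.mem_coe, LinearMap.mem_ker, hg, show π f = 0 from hf, map_zero, tmul_zero]
  let gq : V →ₗ[κ] κ ⊗[S] Ω[S⁄k] := (W π q).liftQ g hgW
  have hΦD : ∀ s, Φ ((1 : κ) ⊗ₜ KaehlerDifferential.D k S s) = mk (lift s) := fun s => by
    simp only [Φ, LinearMap.liftBaseChange_tmul, one_smul, Derivation.liftKaehlerDifferential_comp_D]
    rfl
  have h1 : Φ ∘ₗ gq = LinearMap.id := by
    refine Submodule.linearMap_qext _ (LinearMap.pi_ext' fun j => LinearMap.ext_ring ?_)
    simp only [gq, LinearMap.comp_apply, LinearMap.id_apply, Submodule.mkQ_apply,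
      Submodule.liftQ_apply, LinearMap.single_apply]
    rw [← J_X π q j, hg, hΦD]
    exact hwd _
  have h2 : gq ∘ₗ Φ = LinearMap.id := by
    refine LinearMap.ext fun x => ?_
    induction x using TensorProduct.induction_on with
    | zero => simp
    | add a b ha hb => rw [map_add, map_add, ha, hb]
    | tmul c ω =>
      have hω : ω ∈ Submodule.span S (Set.range (KaehlerDifferential.D k S)) := by
        rw [KaehlerDifferential.span_range_derivation]; exact Submodule.mem_top
      induction hω using Submodule.span_induction generalizing c with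
      | zero => simp
      | add a b _ _ ha hb => rw [tmul_add, map_add, map_add, ha, hb]
      | smul s a _ ha => rw [← smul_tmul]; exact ha _
      | mem a ha =>
        obtain ⟨s, rfl⟩ := ha
        rw [show c ⊗ₜ[S] KaehlerDifferential.D k S s = c • ((1 : κ) ⊗ₜ[S] KaehlerDifferential.D k S s) by
          rw [smul_tmul', smul_eq_mul, mul_one], map_smul, map_smul, LinearMap.id_apply]
        congr 1
        rw [LinearMap.comp_apply, hΦD]
        change g (J π q (lift s)) = _
        rw [hg, hlift]
  rw [(LinearEquiv.ofLinear Φ gq h1 h2).finrank_eq, Submodule.finrank_quotient_add_finrank,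
    Module.finrank_fin_fun]

/-- Linearly independent Jacobian rows have a nonvanishing minor. -/
theorem exists_det {c : ℕ} (f : Fin c → MvPolynomial (Fin N) k)
    (hli : LinearIndependent q.ResidueField fun i => J π q (f i)) :
    ∃ θ : Fin c → Fin N, Matrix.det (Matrix.of fun i j => pderiv (θ i) (f j)) ∉ q.comap π.toRingHom := by
  obtain ⟨θ, hθ⟩ := SMT.exists_minor_ne_zero (k := q.ResidueField) (Matrix.of fun j i => J π q (f i) j) hli
  refine ⟨θ.1, fun h => hθ ?_⟩
  rw [← ev_eq_zero_iff, RingHom.map_det] at h
  exact h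

/-- A nonvanishing minor makes the Jacobian rows independent. -/
theorem linearIndependent_of_det {c : ℕ} (f : Fin c → MvPolynomial (Fin N) k)
    (D : Fin c → Derivation k (MvPolynomial (Fin N) k) (MvPolynomial (Fin N) k))
    (hdet : Matrix.det (Matrix.of fun i j => D j (f i)) ∉ q.comap π.toRingHom) :
    LinearIndependent q.ResidueField fun i => J π q (f i) := by
  classical
  let L : (Fin N → q.ResidueField) →ₗ[q.ResidueField] (Fin c → q.ResidueField) :=
    LinearMap.pi fun j => Fintype.linearCombination q.ResidueField fun l => ev π q (D j (X l))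
  have hD : ∀ j g, D j g = ∑ l, pderiv l g * D j (X l) := fun j g => by
    induction g using MvPolynomial.induction_on with
    | C c => simp [derivation_C]
    | add a b ha hb => simp only [map_add, add_mul, Finset.sum_add_distrib, ha, hb]
    | mul_X a i ha =>
      simp only [Derivation.leibniz, smul_eq_mul, add_mul, Finset.sum_add_distrib, mul_assoc,
        ← Finset.mul_sum, ha]
      congr 2
      rw [Finset.sum_eq_single i (fun l _ hl => by rw [pderiv_X_of_ne (Ne.symm hl), zero_mul])
        (by simp), pderiv_X_self, one_mul]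
  refine LinearIndependent.of_comp L ?_
  have hrow : (L ∘ fun i => J π q (f i)) =
      (Matrix.of fun i j => ev π q (D j (f i))).row := by
    funext i j
    simp [L, Fintype.linearCombination_apply, J, hD j (f i), Matrix.row]
  rw [hrow]
  refine Matrix.linearIndependent_rows_of_det_ne_zero fun h0 => hdet ((ev_eq_zero_iff π q _).1 ?_)
  rw [RingHom.map_det]
  exact h0

/-- Relations with independent Jacobian rows cut out a regular local ring of the expected dimension. -/
theorem quot_regular {c : ℕ} (f : Fin c → MvPolynomial (Fin N) k) (hf : ∀ i, π (f i) = 0)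
    (hli : LinearIndependent q.ResidueField fun i => J π q (f i)) :
    IsDomain (Localization.AtPrime (q.comap π.toRingHom) ⧸ Ideal.span (Set.range fun i =>
        algebraMap _ (Localization.AtPrime (q.comap π.toRingHom)) (f i))) ∧
      ∃ e : ℕ, ringKrullDim (Localization.AtPrime (q.comap π.toRingHom) ⧸ Ideal.span (Set.range fun i =>
          algebraMap _ (Localization.AtPrime (q.comap π.toRingHom)) (f i))) = e ∧
        ringKrullDim (Localization.AtPrime (q.comap π.toRingHom)) = ((e + c : ℕ) : WithBot ℕ∞) := by
  classical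
  let P := MvPolynomial (Fin N) k
  let A := Localization.AtPrime (q.comap π.toRingHom)
  haveI : IsRegularLocalRing A := inferInstance
  letI : Algebra ℤ A := Ring.toIntAlgebra A
  obtain ⟨θ, hθ⟩ := exists_det π q f hli
  choose D hD using fun i => NeronLib.exists_derivation_localization (R := k) (B := P) A
    (q.comap π.toRingHom).primeCompl (pderiv (θ i))
  have hfm : ∀ i, algebraMap P A (f i) ∈ maximalIdeal A := fun i =>
    (IsLocalization.AtPrime.to_map_mem_maximal_iff A (q.comap π.toRingHom) (f i)).2 (by
      rw [Ideal.mem_comap]; exact (show π.toRingHom (f i) = 0 from hf i) ▸ q.zero_mem)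
  have hdet : IsUnit (Matrix.det (Matrix.of fun i j => ((D i).restrictScalars ℤ) (algebraMap P A (f j)))) := by
    have h := IsLocalization.map_units A (⟨_, hθ⟩ : (q.comap π.toRingHom).primeCompl)
    rw [RingHom.map_det] at h
    convert! h using 3 with i j
    ext i j
    exact hD i (f j)
  have hli' := RegLocalDer.linearIndependent_of_det (fun i => algebraMap P A (f i)) hfm
    (fun i => (D i).restrictScalars ℤ) hdet
  obtain ⟨r, g, hd, hspan⟩ := RegLocalDer.exists_append_generators (fun i => algebraMap P A (f i)) hfm hli'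
  have h := RegLocal.quot_span_image hd (Fin.append (fun i => algebraMap P A (f i)) g) hspan
    (Finset.univ.image (Fin.castAdd r))
  have he : Fin.append (fun i => algebraMap P A (f i)) g '' (↑(Finset.univ.image (Fin.castAdd (n := c) r))) =
      Set.range fun i => algebraMap P A (f i) := by
    ext x; simp
  have hcard : (Finset.univ.image (Fin.castAdd (n := c) r)).card = c := by
    rw [Finset.card_image_of_injective _ (Fin.castAdd_injective _ _), Finset.card_univ, Fintype.card_fin]
  rw [he, hcard, Nat.add_sub_cancel_left] at h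
  haveI := h.1
  refine ⟨?_, r, h.2, by rw [hd, add_comm]⟩
  exact RegLocal.isDomain (A ⧸ Ideal.span (Set.range fun i => algebraMap P A (f i)))

/-- A proper quotient of a domain has smaller dimension. -/
theorem ringKrullDim_add_one_le {A : Type u} [CommRing A] {I₀ I : Ideal A} [IsDomain (A ⧸ I₀)]
    (h0 : I₀ ≤ I) (hne : ¬ I ≤ I₀) : ringKrullDim (A ⧸ I) + 1 ≤ ringKrullDim (A ⧸ I₀) := by
  obtain ⟨x, hxI, hx⟩ := SetLike.not_le_iff_exists.1 hne
  refine (add_le_add ?_ le_rfl).trans (ringKrullDim_quotient_succ_le_of_nonZeroDivisor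
    (mem_nonZeroDivisors_of_ne_zero (show Ideal.Quotient.mk I₀ x ≠ 0 from
      fun h => hx (Ideal.Quotient.eq_zero_iff_mem.1 h))))
  let φ : (A ⧸ I₀) ⧸ Ideal.span {Ideal.Quotient.mk I₀ x} →+* A ⧸ I :=
    Ideal.Quotient.lift _ (Ideal.Quotient.factor h0) fun y hy => by
      obtain ⟨z, rfl⟩ := Ideal.mem_span_singleton'.1 hy
      rw [map_mul, Ideal.Quotient.factor_mk, Ideal.Quotient.eq_zero_iff_mem.2 hxI, mul_zero]
  refine ringKrullDim_le_of_surjective φ fun y => ?_
  obtain ⟨y, rfl⟩ := Ideal.Quotient.mk_surjective y
  exact ⟨Ideal.Quotient.mk _ (Ideal.Quotient.mk I₀ y), by simp [φ]⟩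

/-- The height of the prime in the polynomial ring. -/
theorem height_add_eq (hπ : Function.Surjective π) (t : ℕ) (ht : Algebra.trdeg k (S ⧸ q) = t) :
    ∃ a : ℕ, (q.comap π.toRingHom).height = a ∧ a + t = N := by
  let P := MvPolynomial (Fin N) k
  obtain ⟨M, hMmin, hMp, hMe⟩ :=
    DimFormulaLib.exists_isMin_relHeight_eq_height (⟨q.comap π.toRingHom, inferInstance⟩ : PrimeSpectrum P)
  obtain rfl : M = ⟨⊥, Ideal.isPrime_bot⟩ := by
    refine PrimeSpectrum.ext ?_
    exact le_bot_iff.1 (hMmin (show (⟨⊥, Ideal.isPrime_bot⟩ : PrimeSpectrum P) ≤ M from bot_le (a := M.asIdeal)))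
  have hN : Algebra.trdeg k (P ⧸ (⊥ : Ideal P)) = (N : ℕ) := by
    rw [(AlgEquiv.quotientBot k P).trdeg_eq, MvPolynomial.trdeg_of_isDomain]
    simp
  let e : (P ⧸ q.comap π.toRingHom) ≃ₐ[k] S ⧸ q :=
    (Ideal.quotientEquivAlgOfEq k (by
      ext x
      simp [Ideal.Quotient.eq_zero_iff_mem])).trans
      (Ideal.quotientKerAlgEquivOfSurjective (f := (Ideal.Quotient.mkₐ k q).comp π)
        ((Ideal.Quotient.mkₐ_surjective k q).comp hπ))
  obtain ⟨a, ha, hN'⟩ := DimFormulaLib.trdeg_eq_relHeight_add k P hMp N t hN (e.trdeg_eq.trans ht)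
  exact ⟨a, hMe ▸ ha, hN'.symm⟩

end Groth.Agent.CAlgSmoothDim
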